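import Cfsg.Agent.H802.TE.Defs

/-!
# S5261, part E: (ZC) and (M1) (helper390)

Mixed essential subgroups `E ≥ Z2` of `Sy φ` contain `Z3`.
-/

set_option autoImplicit false
set_option linter.unusedSectionVars false

namespace Cfsg.Agent.H390.TE

open Cfsg Cfsg.FusionSystem Cfsg.Agent.H756.PU
open Cfsg.Agent.H765.D3 Cfsg.Agent.H765.D3.Sy
open Cfsg.Agent.H802.TE
open Cfsg.Agent.Hex.Defs (sh cr nm tr)
open scoped commutatorElement

universe u

section Basic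

variable {F K : Type u} [Field F] [Field K] [Algebra F K] {φ : K ≃ₐ[F] K} [Cub φ]

theorem exists_regular {E : Subgroup (Sy φ)} (h : Mixed E) : ∃ e ∈ E, e.x1 ≠ 0 ∧ e.x6 ≠ 0 := by
  obtain ⟨h1, h2⟩ := h
  obtain ⟨a, ha, ha1⟩ := SetLike.not_le_iff_exists.1 h1
  obtain ⟨b, hb, hb6⟩ := SetLike.not_le_iff_exists.1 h2
  rw [mem_Q1] at ha1
  rw [mem_Q2] at hb6
  by_cases h3 : a.x6 = 0
  · by_cases h4 : b.x1 = 0
    · refine ⟨a * b, E.mul_mem ha hb, ?_, ?_⟩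
      · rw [mul_x1, h4, add_zero]
        exact ha1
      · rw [mul_x6, h3, zero_add]
        exact hb6
    · exact ⟨b, hb, h4, hb6⟩
  · exact ⟨a, ha, ha1, h3⟩

/-- `Com` in terms of commutators -/
theorem com_iff {A M N : Subgroup (Sy φ)} : Com A M N ↔ ∀ a ∈ A, ∀ m ∈ M, ⁅a, m⁆ ∈ N := Iff.rfl

theorem comm_inv_mem {N : Subgroup (Sy φ)} {x y : Sy φ} (h : ⁅x, y⁆ ∈ N) : ⁅y, x⁆ ∈ N := by
  rw [← commutatorElement_inv]
  exact N.inv_mem h

theorem comm_one {x y : Sy φ} (h : x * y = y * x) : ⁅x, y⁆ = 1 := commutatorElement_eq_one_iff_mul_comm.2 h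

/-- elements of `Z2` have order dividing `p` -/
theorem sq_Z2 (h2 : (2 : F) = 0) {x : Sy φ} (hx : x ∈ Z2 φ) : x * x = 1 := by
  obtain ⟨h1, h6, h5, h3⟩ := hx
  have hF : ∀ t : F, t + t = 0 := fun t => by rw [← two_mul, h2, zero_mul]
  ext
  · rw [mul_x1, h1, add_zero]; rfl
  · rw [mul_x6, h6, add_zero]; rfl
  · rw [mul_x5, h5, h1, smul_zero, add_zero, add_zero]; rfl
  · rw [mul_x3, h3, h1, h5, cr_zero_left, sh_zero, smul_zero]; simp
  · rw [mul_x2, h1, h3, h5, h6]; simp [tr_zero, hF]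
  · rw [mul_x4, h1, h3, h5, h6]; simp [tr_zero, hF]

theorem mul_Z3 {x y : Sy φ} (hx : x ∈ Z3 φ) (hy : y ∈ Z3 φ) :
    x * y = ⟨0, 0, 0, x.x3 + y.x3, x.x2 + y.x2, x.x4 + y.x4⟩ := by
  obtain ⟨h1, h6, h5⟩ := hx
  obtain ⟨k1, k6, k5⟩ := hy
  ext
  · rw [mul_x1, h1, k1, add_zero]
  · rw [mul_x6, h6, k6, add_zero]
  · rw [mul_x5, h5, k5, k6, zero_smul, add_zero, add_zero]
  · rw [mul_x3, h1, k5, k6]; simp [cr_zero_left]
  · rw [mul_x2, h1, k5, k6]; simp [tr_zero, sh_zero]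
  · rw [mul_x4, h1, k5, k6]; simp [tr_zero, sh_zero]

theorem pow_Z3 {x : Sy φ} (hx : x ∈ Z3 φ) (n : ℕ) : x ^ n = ⟨0, 0, 0, n • x.x3, n • x.x2, n • x.x4⟩ := by
  induction n with
  | zero =>
    rw [pow_zero, zero_smul, zero_smul, zero_smul]
    rfl
  | succ n ih =>
    rw [pow_succ, ih, mul_Z3 ⟨rfl, rfl, rfl⟩ hx, succ_nsmul, succ_nsmul, succ_nsmul]

theorem pow_p_Z3 {p : ℕ} [CharP K p] {x : Sy φ} (hx : x ∈ Z3 φ) : x ^ p = 1 := by
  have hF : CharP F p := (Algebra.charP_iff F K p).2 inferInstance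
  rw [pow_Z3 hx, nsmul_eq_mul, nsmul_eq_mul, nsmul_eq_mul, CharP.cast_eq_zero, CharP.cast_eq_zero, zero_mul, zero_mul,
    zero_mul]
  rfl

end Basic

/-! ### (ZC) -/

theorem stZC (hphi : StPhi.{u}) : StZC.{u} := by
  intro F K _ _ _ _ _ φ _ p _ E Γ hE hmix hZ2
  obtain ⟨e, he, he1, he6⟩ := exists_regular hmix
  have hfin : Finite E := Finite.of_injective _ Subtype.val_injective
  have hpg : IsPGroup p E := hE.pgr.of_injective (Subgroup.inclusion hE.E_le) (Subgroup.inclusion_injective _)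
  obtain ⟨-, hcom, -⟩ := hphi E p hE.pp hfin hpg
  refine ⟨?_, ?_⟩
  · intro w hw
    have h1 := hcom e he (u2 φ (e.x6⁻¹ * w.x4)) (hZ2 (u2_mem _))
    change ⁅e, u2 φ (e.x6⁻¹ * w.x4)⁆ ∈ Phi E at h1
    rw [comm_Z2 (u2_mem _)] at h1
    have h2 : u4 φ (e.x6 * (u2 φ (e.x6⁻¹ * w.x4)).x2) = w := by
      rw [eq_u4 hw]
      congr 1
      change e.x6 * (e.x6⁻¹ * w.x4) = _
      rw [mul_inv_cancel_left₀ he6]
    rwa [h2] at h1
  · intro z hz hcz hzp
    have hc : ∀ e ∈ E, ⁅z, e⁆ = 1 := fun e he => comm_one (hcz e he)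
    have h6 : z.x6 = 0 := x6_eq_zero' (hc _ (hZ2 (u2_mem 1)))
    have h5 := congrArg Sy.x5 (hc e he)
    rw [comm_x5, h6, zero_smul, sub_zero, one_x5] at h5
    have h1 : z.x1 = 0 := (smul_eq_zero.1 h5).resolve_left he6
    have hz4 : z ∈ Z4 φ := ⟨h1, h6⟩
    have hc' : ⁅e, z⁆ = 1 := comm_one (hcz e he).symm
    have h3 := congrArg Sy.x3 hc'
    rw [comm_x3 hz4, one_x3] at h3
    refine ⟨h1, h6, ?_⟩
    by_cases h2 : (2 : K) = 0
    · obtain ⟨s, hs⟩ := cr_eq_zero_two φ h2 he1 h3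
      have h4 := congrArg Sy.x2 hc'
      rw [comm_x2 hz4, one_x2, hs, mul_smul_comm, tr_smul, tr_sh_mul] at h4
      have hp2 : p = 2 := by
        have h2' : ((2 : ℕ) : K) = 0 := by exact_mod_cast h2
        rw [CharP.cast_eq_zero_iff K p] at h2'
        exact (Nat.prime_dvd_prime_iff_eq hE.pp Nat.prime_two).1 h2'
      have h7 : (z * z).x4 = 0 := by
        rw [← sq, ← hp2, hzp, one_x4]
      rw [mul_x4, h1, h6, hs] at h7
      have h2F : (2 : F) = 0 := by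
        apply (algebraMap F K).injective
        rw [map_ofNat, map_zero, h2]
      simp only [nm_zero, zero_mul, mul_zero, sh_zero, tr_zero, add_zero, sub_zero, smul_zero,
        mul_smul_comm, tr_smul] at h7
      have h8 : s * (s * nm φ e.x1) = 0 := by
        have h9 : tr φ (z.x3 * e.x1) = tr φ (e.x1 * z.x3) := by rw [mul_comm]
        rw [h9] at h7
        linear_combination (-1 : F) * h7 + s * h4 + (z.x4 - s * s * nm φ e.x1) * h2F
      have h9 : nm φ e.x1 ≠ 0 := fun h => he1 ((nm_eq_zero φ).1 h)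
      have h10 : s = 0 := by
        rcases mul_eq_zero.1 h8 with h | h
        · exact h
        · exact (mul_eq_zero.1 h).resolve_right h9
      rw [hs, h10, zero_smul]
    · exact (cr_eq_zero φ h2 h3).resolve_left he1

/-! ### (M1), first part -/

section

variable {Ω : Type*} [Group Ω] {E : Subgroup Ω}

theorem le_normalizerIn [Finite Ω] {A N : Subgroup Ω} (h : Com A E N) (hN : N ≤ E) : A ≤ normalizerIn ⊤ E := by
  intro a ha
  refine ⟨trivial, ?_⟩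
  have h1 : ∀ e ∈ E, a * e * a⁻¹ ∈ E := by
    intro e he
    have h2 := E.mul_mem (hN (h a ha e he)) he
    rwa [inv_mul_cancel_right] at h2
  have h3 : E.map (MulAut.conj a).toMonoidHom ≤ E := by
    rintro _ ⟨e, he, rfl⟩
    exact h1 e he
  have h4 : E.map (MulAut.conj a).toMonoidHom = E := by
    apply Subgroup.eq_of_le_of_card_ge h3
    exact (Nat.card_congr (E.equivMapOfInjective _ (MulAut.conj a).injective).toEquiv).le
  change a ∈ Subgroup.normalizer (E : Set Ω)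
  rw [Subgroup.mem_normalizer_iff]
  intro e
  refine ⟨h1 e, fun he => ?_⟩
  rw [← h4] at he
  obtain ⟨e', he', h5⟩ := he
  have h6 : e' = e := by
    have h7 : a * e' * a⁻¹ = a * e * a⁻¹ := h5
    exact mul_left_cancel (mul_right_cancel h7)
  rwa [← h6]

end

section

variable {F K : Type u} [Field F] [Field K] [Finite F] [Finite K] [Algebra F K] {φ : K ≃ₐ[F] K} [Cub φ] {p : ℕ}
  [CharP K p] {E : Subgroup (Sy φ)} {Γ : Subgroup (MulAut E)}

theorem m1_aux (hZC : StZC.{u}) (hhull : StHull.{u}) (hE : Ess ⊤ E p Γ) (hmix : Mixed E) (h2 : Z2 φ ≤ E)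
    (h3 : ¬ Z3 φ ≤ E) :
    ∃ γ ∈ Γ, ∃ x : E, (x : Sy φ) ∈ Z2 φ ∧ ((γ x : E) : Sy φ).x1 ≠ 0 ∧ ((γ x : E) : Sy φ).x6 ≠ 0 ∧
      ∀ e : E, ∃ w : E, (w : Sy φ) ∈ Z1 φ ∧ ⁅γ x, e⁆ = γ w := by
  have hcom : Com (Z3 φ) E (Z2 φ) := by
    rw [com_iff]
    intro a ha e he
    exact comm_inv_mem (comm_mem_Z2 ha)
  obtain ⟨hZ1, hzc⟩ := hZC hE hmix h2
  obtain ⟨γ, hγ, x, hx, a, ha, hax⟩ := hhull hE (Z3 φ) (Z2 φ) le_top h2 hcom h3
  have hw : ∀ e : E, ∃ w : E, (w : Sy φ) ∈ Z1 φ ∧ ⁅γ x, e⁆ = γ w := by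
    intro e
    refine ⟨⁅x, γ⁻¹ e⁆, ?_, ?_⟩
    · have h1 : ((⁅x, γ⁻¹ e⁆ : E) : Sy φ) = ⁅(x : Sy φ), ((γ⁻¹ e : E) : Sy φ)⁆ := rfl
      rw [h1]
      apply comm_inv_mem
      rw [comm_Z2 hx]
      exact u4_mem _
    · rw [map_commutatorElement]
      congr 1
      exact (MulAut.apply_inv_self _ γ e).symm
  have hy1 : ((γ x : E) : Sy φ).x1 ≠ 0 := by
    intro h1
    apply hax
    apply hZ1
    change ⁅a, ((γ x : E) : Sy φ)⁆ ∈ Z1 φ
    apply comm_inv_mem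
    have h5 := comm_mem_Z2 (x := ((γ x : E) : Sy φ)) ha
    refine ⟨h5.1, h5.2.1, h5.2.2.1, h5.2.2.2, ?_⟩
    rw [comm_x2' ha, h1, zero_mul, tr_zero]
  refine ⟨γ, hγ, x, hx, hy1, ?_, hw⟩
  intro h6
  obtain ⟨e, he, he1, he6⟩ := exists_regular hmix
  obtain ⟨w, hw1, hw2⟩ := hw ⟨e, he⟩
  have h7 : ((γ w : E) : Sy φ) ∈ Z3 φ := by
    apply hzc _ (γ w).2
    · intro e' he'
      have h8 : w * γ⁻¹ ⟨e', he'⟩ = γ⁻¹ ⟨e', he'⟩ * w := by
        apply Subtype.ext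
        change (w : Sy φ) * _ = _ * (w : Sy φ)
        exact (commutatorElement_eq_one_iff_mul_comm.1 (comm_Z1 hw1)).symm
      have h9 := congrArg γ h8
      rw [map_mul, map_mul, MulAut.apply_inv_self] at h9
      exact congrArg Subtype.val h9
    · have h8 : w ^ p = 1 := Subtype.ext (pow_p_Z3 (Z2_le_Z3 (Z1_le_Z2 hw1)))
      have h9 := congrArg γ h8
      rw [map_pow, map_one] at h9
      exact congrArg Subtype.val h9
  have h8 : ((γ w : E) : Sy φ) = ⁅((γ x : E) : Sy φ), e⁆ := congrArg Subtype.val hw2.symm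
  have h9 := h7.2.2
  rw [h8, comm_x5, h6, zero_smul, sub_zero] at h9
  exact (smul_ne_zero he6 hy1) h9

end

theorem stM12 (hZC : StZC.{u}) (hhull : StHull.{u}) : StM12.{u} := by
  intro F K _ _ _ _ _ φ _ _ E Γ hE hmix h2
  by_contra h3
  obtain ⟨γ, -, x, hx, h1, h6, -⟩ := m1_aux hZC hhull hE hmix h2 h3
  have h2K : (2 : K) = 0 := by
    have := CharP.cast_eq_zero K 2
    exact_mod_cast this
  have h2F : (2 : F) = 0 := by
    apply (algebraMap F K).injective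
    rw [map_ofNat, map_zero, h2K]
  have h4 : x * x = 1 := Subtype.ext (sq_Z2 h2F hx)
  have h5 := congrArg γ h4
  rw [map_mul, map_one] at h5
  have h7 : ((γ x : E) : Sy φ) * ((γ x : E) : Sy φ) = 1 := congrArg Subtype.val h5
  have h8 := congrArg Sy.x5 h7
  rw [mul_x5, one_x5, ← two_mul, h2K, zero_mul, zero_add] at h8
  exact smul_ne_zero h6 h1 h8

/-! ### (M1), `p` odd -/

section Sub

variable {F K : Type u} [Field F] [Field K] [Algebra F K]

/-- `{x ∈ Z3 | Tr(a x3) = 0}` -/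
def A1 (φ : K ≃ₐ[F] K) [Cub φ] (a : K) : Subgroup (Sy φ) where
  carrier := {x | x ∈ Z3 φ ∧ tr φ (a * x.x3) = 0}
  one_mem' := ⟨(Z3 φ).one_mem, by simp [tr_zero]⟩
  mul_mem' {x y} hx hy := by
    refine ⟨(Z3 φ).mul_mem hx.1 hy.1, ?_⟩
    rw [mul_Z3 hx.1 hy.1]
    change tr φ (a * (x.x3 + y.x3)) = 0
    rw [mul_add, tr_add, hx.2, hy.2, add_zero]
  inv_mem' {x} hx := by
    refine ⟨(Z3 φ).inv_mem hx.1, ?_⟩
    rw [inv_x3, hx.1.1, hx.1.2.1, cr_zero_left, zero_smul, add_zero, sub_zero, mul_neg, tr_neg, hx.2, neg_zero]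

/-- `{x ∈ Z4 | Tr(a x5) = 0}` -/
def A2 (φ : K ≃ₐ[F] K) [Cub φ] (a : K) : Subgroup (Sy φ) where
  carrier := {x | x ∈ Z4 φ ∧ tr φ (a * x.x5) = 0}
  one_mem' := ⟨(Z4 φ).one_mem, by simp [tr_zero]⟩
  mul_mem' {x y} hx hy := by
    refine ⟨(Z4 φ).mul_mem hx.1 hy.1, ?_⟩
    rw [mul_x5, hx.1.1, smul_zero, add_zero, mul_add, tr_add, hx.2, hy.2, add_zero]
  inv_mem' {x} hx := by
    refine ⟨(Z4 φ).inv_mem hx.1, ?_⟩
    rw [inv_x5, hx.1.1, smul_zero, add_zero, mul_neg, tr_neg, hx.2, neg_zero]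

variable {φ : K ≃ₐ[F] K} [Cub φ]

theorem mem_A1 {a : K} {x : Sy φ} : x ∈ A1 φ a ↔ x ∈ Z3 φ ∧ tr φ (a * x.x3) = 0 := Iff.rfl
theorem mem_A2 {a : K} {x : Sy φ} : x ∈ A2 φ a ↔ x ∈ Z4 φ ∧ tr φ (a * x.x5) = 0 := Iff.rfl

theorem A1_le (a : K) : A1 φ a ≤ Z3 φ := fun _ h => h.1
theorem A2_le (a : K) : A2 φ a ≤ Z4 φ := fun _ h => h.1

/-- `b ↦ Tr(a b)` is onto for `a ≠ 0` -/
theorem exists_tr_mul {a : K} (ha : a ≠ 0) (t : F) : ∃ b : K, tr φ (a * b) = t := by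
  obtain ⟨s, hs⟩ := exists_tr_ne φ
  refine ⟨(t * (tr φ s)⁻¹) • (a⁻¹ * s), ?_⟩
  rw [mul_smul_comm, mul_inv_cancel_left₀ ha, tr_smul, mul_assoc, inv_mul_cancel₀ hs, mul_one]

theorem card_A1 [Finite F] [Finite K] {a : K} (ha : a ≠ 0) :
    Nat.card (A1 φ a) = Nat.card K * Nat.card F := by
  let f : Z3 φ →* Multiplicative F :=
    { toFun := fun x => Multiplicative.ofAdd (tr φ (a * (x : Sy φ).x3))
      map_one' := by
        change Multiplicative.ofAdd (tr φ (a * 0)) = 1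
        rw [mul_zero, tr_zero]
        rfl
      map_mul' := fun x y => by
        change Multiplicative.ofAdd (tr φ (a * ((x : Sy φ) * (y : Sy φ)).x3)) = _
        rw [mul_Z3 x.2 y.2]
        change Multiplicative.ofAdd (tr φ (a * ((x : Sy φ).x3 + (y : Sy φ).x3))) = _
        rw [mul_add, tr_add]
        rfl }
  have hf : Function.Surjective f := by
    intro t
    obtain ⟨b, hb⟩ := exists_tr_mul (φ := φ) ha t.toAdd
    refine ⟨⟨u3 φ b, u3_mem b⟩, ?_⟩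
    change Multiplicative.ofAdd (tr φ (a * b)) = t
    rw [hb]
    rfl
  have hk : f.ker = (A1 φ a).subgroupOf (Z3 φ) := by
    ext x
    rw [MonoidHom.mem_ker, Subgroup.mem_subgroupOf, mem_A1]
    constructor
    · intro h
      exact ⟨x.2, h⟩
    · intro h
      exact h.2
  have h1 : f.ker.index = Nat.card F := by
    rw [Subgroup.index_ker, MonoidHom.range_eq_top.2 hf, Subgroup.card_top]
    rfl
  have h2 := Subgroup.card_mul_index f.ker
  rw [h1, hk, card_Z3] at h2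
  have h3 : Nat.card ((A1 φ a).subgroupOf (Z3 φ)) = Nat.card (A1 φ a) :=
    Nat.card_congr (Subgroup.subgroupOfEquivOfLe (A1_le a)).toEquiv
  rw [h3] at h2
  have h4 : 0 < Nat.card F := Nat.card_pos
  apply Nat.eq_of_mul_eq_mul_right h4
  rw [h2]
  ring

theorem card_A2 [Finite F] [Finite K] {a : K} (ha : a ≠ 0) :
    Nat.card (A2 φ a) = Nat.card K ^ 2 * Nat.card F := by
  let f : Z4 φ →* Multiplicative F :=
    { toFun := fun x => Multiplicative.ofAdd (tr φ (a * (x : Sy φ).x5))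
      map_one' := by
        change Multiplicative.ofAdd (tr φ (a * 0)) = 1
        rw [mul_zero, tr_zero]
        rfl
      map_mul' := fun x y => by
        change Multiplicative.ofAdd (tr φ (a * ((x : Sy φ) * (y : Sy φ)).x5)) = _
        rw [mul_x5, x.2.1, smul_zero, add_zero, mul_add, tr_add]
        rfl }
  have hf : Function.Surjective f := by
    intro t
    obtain ⟨b, hb⟩ := exists_tr_mul (φ := φ) ha t.toAdd
    refine ⟨⟨u5 φ b, u5_mem b⟩, ?_⟩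
    change Multiplicative.ofAdd (tr φ (a * b)) = t
    rw [hb]
    rfl
  have hk : f.ker = (A2 φ a).subgroupOf (Z4 φ) := by
    ext x
    rw [MonoidHom.mem_ker, Subgroup.mem_subgroupOf, mem_A2]
    constructor
    · intro h
      exact ⟨x.2, h⟩
    · intro h
      exact h.2
  have h1 : f.ker.index = Nat.card F := by
    rw [Subgroup.index_ker, MonoidHom.range_eq_top.2 hf, Subgroup.card_top]
    rfl
  have h2 := Subgroup.card_mul_index f.ker
  rw [h1, hk, card_Z4] at h2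
  have h3 : Nat.card ((A2 φ a).subgroupOf (Z4 φ)) = Nat.card (A2 φ a) :=
    Nat.card_congr (Subgroup.subgroupOfEquivOfLe (A2_le a)).toEquiv
  rw [h3] at h2
  have h4 : 0 < Nat.card F := Nat.card_pos
  apply Nat.eq_of_mul_eq_mul_right h4
  rw [h2]
  ring

theorem card_lt (φ : K ≃ₐ[F] K) [Cub φ] [Finite F] [Finite K] : Nat.card F < Nat.card K := by
  by_contra h
  push Not at h
  have h1 : Function.Bijective (algebraMap F K) :=
    (algebraMap F K).injective.bijective_of_nat_card_le h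
  obtain ⟨t, ht⟩ := Cub.ne (φ := φ)
  obtain ⟨s, rfl⟩ := h1.2 t
  exact ht (φ.commutes s)

end Sub

section

variable {F K : Type u} [Field F] [Field K] [Finite F] [Finite K] [Algebra F K] {φ : K ≃ₐ[F] K} [Cub φ] {p : ℕ}
  [CharP K p] {E : Subgroup (Sy φ)} {Γ : Subgroup (MulAut E)}

theorem tr_cr_comm {a : K} {x : Sy φ} (hx : x ∈ A2 φ (sh φ a)) : tr φ (cr φ a x.x5 * a) = 0 := by
  have h1 : cr φ a x.x5 * a = cr φ x.x5 a * a := by rw [cr_comm]
  rw [h1, tr_cr, cr_self]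
  have h2 : x.x5 * (2 * sh φ a) = (2 : F) • (sh φ a * x.x5) := by
    rw [Algebra.smul_def, map_ofNat]
    ring
  rw [h2, tr_smul, hx.2, mul_zero]

theorem relIndex_mul_card {G : Type*} [Group G] (H M : Subgroup G) : H.relIndex M * Nat.card ↥(H ⊓ M) = Nat.card M := by
  have h1 := Subgroup.card_mul_index (H.subgroupOf M)
  have h2 : Nat.card (H.subgroupOf M) = Nat.card ↥(H ⊓ M) := by
    rw [← Subgroup.inf_subgroupOf_right]
    exact Nat.card_congr (Subgroup.subgroupOfEquivOfLe inf_le_right).toEquiv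
  rw [h2, mul_comm] at h1
  exact h1

theorem m1_core (hP2 : StP2.{u}) (hE : Ess ⊤ E p Γ) (h2K : (2 : K) ≠ 0) (hZ1 : Z1 φ ≤ Phi E) (h2 : Z2 φ ≤ E)
    (h3 : ¬ Z3 φ ≤ E) {a : K} {u : F} (ha : a ≠ 0) (hu : u ≠ 0)
    (hy : ∀ e ∈ E, ⁅u1 φ a * u6 φ u, e⁆ ∈ Z1 φ) : False := by
  have hy1 : (u1 φ a * u6 φ u).x1 = a := add_zero a
  have hy6 : (u1 φ a * u6 φ u).x6 = u := zero_add u
  have hZ12 := Z1_le_Z2 (φ := φ)
  -- the `x1`-coordinates
  have hx1 : ∀ e ∈ E, ∃ s : F, e.x1 = s • a := by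
    intro e he
    have h := (hy e he).2.2.1
    rw [comm_x5, hy1, hy6] at h
    refine ⟨u⁻¹ * e.x6, ?_⟩
    rw [mul_smul, sub_eq_zero.1 h, inv_smul_smul₀ hu]
  have hEZ4 : E ⊓ Z4 φ ≤ A1 φ a := by
    rintro e ⟨he, he4⟩
    have h := hy e he
    have h5 := h.2.2.2.1
    rw [comm_x3 he4, hy1] at h5
    have h6 : e.x5 = 0 := (cr_eq_zero φ h2K h5).resolve_left ha
    have h7 := h.2.2.2.2
    rw [comm_x2 he4, hy1, h6, mul_zero, tr_zero, add_zero] at h7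
    exact ⟨⟨he4.1, he4.2, h6⟩, h7⟩
  have hcom3 : Com (Z3 φ) E (Z2 φ) := by
    rw [com_iff]
    intro x hx e he
    exact comm_inv_mem (comm_mem_Z2 hx)
  have hn3 := le_normalizerIn hcom3 h2
  have hpos : 0 < Nat.card F := Nat.card_pos
  have hposK : 0 < Nat.card K := Nat.card_pos
  have hr21 : (Z1 φ).relIndex (Z2 φ) = Nat.card F := by
    have h := relIndex_mul_card (Z1 φ) (Z2 φ)
    rw [inf_eq_left.2 hZ12, card_Z1, card_Z2] at h
    apply Nat.eq_of_mul_eq_mul_right hpos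
    rw [h]
    ring
  have hb1 : E.relIndex (Z3 φ) ≤ Nat.card F := by
    have h := hP2 hE (Z3 φ) (Z3 φ) (Z2 φ) (Z2 φ) (Z1 φ) (Z1 φ) hn3 hn3 h3 h2 h2 hcom3 hcom3 hZ1 hZ1
    rw [hr21, ← sq] at h
    exact (Nat.pow_le_pow_iff_left two_ne_zero).1 h
  have hle : E ⊓ Z3 φ ≤ A1 φ a := (inf_le_inf_left _ Z3_le_Z4).trans hEZ4
  have hA1 : A1 φ a ≤ E := by
    have h := relIndex_mul_card E (Z3 φ)
    rw [card_Z3] at h
    have h4 : Nat.card (A1 φ a) ≤ Nat.card ↥(E ⊓ Z3 φ) := by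
      rw [card_A1 ha]
      have h5 : Nat.card K * Nat.card F ^ 2 ≤ Nat.card F * Nat.card ↥(E ⊓ Z3 φ) := by
        rw [← h]
        exact Nat.mul_le_mul_right _ hb1
      apply Nat.le_of_mul_le_mul_left _ hpos
      refine le_trans (le_of_eq ?_) h5
      ring
    have h5 := Subgroup.eq_of_le_of_card_ge hle h4
    rw [← h5]
    exact inf_le_left
  have ha' : sh φ a ≠ 0 := fun h => ha ((sh_eq_zero φ).1 h)
  have hcom : Com (A2 φ (sh φ a)) E (A1 φ a) := by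
    rw [com_iff]
    intro x hx e he
    apply comm_inv_mem
    refine ⟨comm_mem_Z3 hx.1, ?_⟩
    obtain ⟨s, hs⟩ := hx1 e he
    rw [comm_x3 hx.1, hs, cr_smul_left, mul_smul_comm, tr_smul, mul_comm a, tr_cr_comm hx]
    exact mul_zero s
  have hn2 := le_normalizerIn hcom hA1
  have h := hP2 hE (A2 φ (sh φ a)) (Z3 φ) (A1 φ a) (Z2 φ) (Z1 φ) (Z1 φ) hn2 hn3 h3 hA1 h2 hcom hcom3 hZ1 hZ1
  have hr : (Z1 φ).relIndex (A1 φ a) = Nat.card K := by
    have h := relIndex_mul_card (Z1 φ) (A1 φ a)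
    have h4 : Z1 φ ≤ A1 φ a := fun x hx => ⟨Z2_le_Z3 (hZ12 hx), by rw [hx.2.2.2.1, mul_zero, tr_zero]⟩
    rw [inf_eq_left.2 h4, card_Z1, card_A1 ha] at h
    exact Nat.eq_of_mul_eq_mul_right hpos h
  rw [hr21, hr] at h
  have h4 : Nat.card K ≤ E.relIndex (A2 φ (sh φ a)) := by
    have h5 := relIndex_mul_card E (A2 φ (sh φ a))
    rw [card_A2 ha'] at h5
    have h6 : E ⊓ A2 φ (sh φ a) ≤ A1 φ a := (inf_le_inf_left _ (fun x hx => hx.1)).trans hEZ4
    have h7 : Nat.card ↥(E ⊓ A2 φ (sh φ a)) ≤ Nat.card K * Nat.card F := by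
      rw [← card_A1 (φ := φ) ha]
      exact Subgroup.card_le_of_le h6
    have h8 : Nat.card K ^ 2 * Nat.card F ≤ E.relIndex (A2 φ (sh φ a)) * (Nat.card K * Nat.card F) := by
      rw [← h5]
      exact Nat.mul_le_mul_left _ h7
    apply Nat.le_of_mul_le_mul_right _ (Nat.mul_pos hposK hpos)
    refine le_trans (le_of_eq ?_) h8
    ring
  have h5 := card_lt φ
  have h6 : Nat.card K * Nat.card K ≤ Nat.card K * Nat.card F := by
    refine le_trans ?_ h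
    rw [sq]
    exact Nat.mul_le_mul h4 h4
  exact absurd (Nat.le_of_mul_le_mul_left h6 hposK) (not_le.2 h5)

end

theorem stM1o (hP2 : StP2.{u}) (hhull : StHull.{u}) (hcj : StConj.{u}) (hReg : StReg.{u}) (hZC : StZC.{u}) :
    StM1o.{u} := by
  intro F K _ _ _ _ _ φ _ p _ E Γ hE hp2 hmix h2
  by_contra h3
  obtain ⟨γ, -, x, hx, h1, h6, hw⟩ := m1_aux hZC hhull hE hmix h2 h3
  have h2K : (2 : K) ≠ 0 := by
    intro h
    have h2' : ((2 : ℕ) : K) = 0 := by exact_mod_cast h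
    rw [CharP.cast_eq_zero_iff K p] at h2'
    exact hp2 ((Nat.prime_dvd_prime_iff_eq hE.pp Nat.prime_two).1 h2')
  -- `γ(Z1) = Z1`
  have hsur : ∀ v : Z1 φ, ∃ w : Z1 φ, ∃ h : (w : Sy φ) ∈ E, ((γ ⟨(w : Sy φ), h⟩ : E) : Sy φ) = v := by
    intro v
    obtain ⟨w, hw1, hw2⟩ := hw ⟨u2 φ ((((γ x : E) : Sy φ).x6)⁻¹ * (v : Sy φ).x4), h2 (u2_mem _)⟩
    refine ⟨⟨w, hw1⟩, w.2, ?_⟩
    have h4 : ((γ w : E) : Sy φ) = ⁅((γ x : E) : Sy φ), u2 φ ((((γ x : E) : Sy φ).x6)⁻¹ * (v : Sy φ).x4)⁆ :=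
      congrArg Subtype.val hw2.symm
    change ((γ w : E) : Sy φ) = v
    rw [h4, comm_Z2 (u2_mem _), eq_u4 v.2]
    congr 1
    change ((γ x : E) : Sy φ).x6 * ((((γ x : E) : Sy φ).x6)⁻¹ * (v : Sy φ).x4) = _
    rw [mul_inv_cancel_left₀ h6]
  choose g hgE hg using hsur
  have hginj : Function.Injective g := by
    intro v v' h
    apply Subtype.ext
    rw [← hg v, ← hg v']
    congr 3
    rw [h]
  have hgsur := Finite.surjective_of_injective hginj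
  have hinv : ∀ w : E, (w : Sy φ) ∈ Z1 φ → ((γ w : E) : Sy φ) ∈ Z1 φ := by
    intro w hw1
    obtain ⟨v, hv⟩ := hgsur ⟨w, hw1⟩
    have h4 : (⟨(g v : Sy φ), hgE v⟩ : E) = w := Subtype.ext (congrArg (Subtype.val : Z1 φ → Sy φ) hv)
    have h5 := hg v
    rw [h4] at h5
    rw [h5]
    exact v.2
  have hyE : ∀ e ∈ E, ⁅((γ x : E) : Sy φ), e⁆ ∈ Z1 φ := by
    intro e he
    obtain ⟨w, hw1, hw2⟩ := hw ⟨e, he⟩
    have h4 : ((γ w : E) : Sy φ) = ⁅((γ x : E) : Sy φ), e⁆ := congrArg Subtype.val hw2.symm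
    rw [← h4]
    exact hinv w hw1
  obtain ⟨c, hc⟩ := hReg ((γ x : E) : Sy φ) hp2 h1 h6
  obtain ⟨Γ', hE'⟩ := hcj hE c trivial
  have hmem : ∀ z : Sy φ, z ∈ E.map (MulAut.conj c).toMonoidHom ↔ c⁻¹ * z * c ∈ E := by
    intro z
    constructor
    · rintro ⟨e, he, rfl⟩
      have h4 : c⁻¹ * (MulAut.conj c).toMonoidHom e * c = e := by
        change c⁻¹ * (c * e * c⁻¹) * c = e
        group
      rw [h4]
      exact he
    · intro h
      refine ⟨_, h, ?_⟩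
      change c * (c⁻¹ * z * c) * c⁻¹ = z
      group
  have hconj : ∀ {N : Subgroup (Sy φ)}, N.Normal → ∀ z ∈ N, c⁻¹ * z * c ∈ N := by
    intro N hN z hz
    have h4 := hN.conj_mem z hz c⁻¹
    rwa [inv_inv] at h4
  have h2' : Z2 φ ≤ E.map (MulAut.conj c).toMonoidHom := by
    intro z hz
    rw [hmem]
    exact h2 (hconj inferInstance z hz)
  have h3' : ¬ Z3 φ ≤ E.map (MulAut.conj c).toMonoidHom := by
    intro h
    apply h3
    intro z hz
    have h4 : c * z * c⁻¹ ∈ E.map (MulAut.conj c).toMonoidHom :=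
      h ((inferInstance : (Z3 φ).Normal).conj_mem z hz c)
    rw [hmem] at h4
    have h5 : c⁻¹ * (c * z * c⁻¹) * c = z := by group
    rwa [h5] at h4
  have hyE' : ∀ e ∈ E.map (MulAut.conj c).toMonoidHom,
      ⁅u1 φ ((γ x : E) : Sy φ).x1 * u6 φ ((γ x : E) : Sy φ).x6, e⁆ ∈ Z1 φ := by
    rintro _ ⟨e, he, rfl⟩
    rw [← hc]
    have h4 := (inferInstance : (Z1 φ).Normal).conj_mem _ (hyE e he) c
    have h5 : c * ⁅((γ x : E) : Sy φ), e⁆ * c⁻¹ =
        ⁅c * ((γ x : E) : Sy φ) * c⁻¹, (MulAut.conj c).toMonoidHom e⁆ := by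
      change _ = ⁅c * ((γ x : E) : Sy φ) * c⁻¹, c * e * c⁻¹⁆
      rw [commutatorElement_def, commutatorElement_def]
      group
    rwa [← h5]
  have hymem : u1 φ ((γ x : E) : Sy φ).x1 * u6 φ ((γ x : E) : Sy φ).x6 ∈ E.map (MulAut.conj c).toMonoidHom := by
    rw [← hc]
    exact ⟨_, (γ x).2, rfl⟩
  have hmix' : Mixed (E.map (MulAut.conj c).toMonoidHom) := by
    constructor
    · intro h
      have h4 := h hymem
      rw [mem_Q1, mul_x1] at h4
      exact h1 ((add_zero _).symm.trans h4)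
    · intro h
      have h4 := h hymem
      rw [mem_Q2, mul_x6] at h4
      exact h6 ((zero_add _).symm.trans h4)
  exact m1_core hP2 hE' h2K (hZC hE' hmix' h2').1 h2' h3' h1 h6 hyE'

end Cfsg.Agent.H390.TE
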